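import Cfsg.Agent.Lib.Leech.L3.Act0
import Cfsg.Agent.Lib.Leech.L3.Act1
import Cfsg.Agent.Lib.Leech.L3.Act2

set_option autoImplicit false
set_option maxRecDepth 100000
set_option exponentiation.threshold 100000

namespace Cfsg.Agent.Leech.L3

open Cfsg Cfsg.Agent.PG Cfsg.Agent.Golay Cfsg.Agent.Leech Equiv
open Cfsg.Agent.Leech.M (U W8 u0 nU nW8 nu0)
open scoped Pointwise

theorem acts : ∀ σ ∈ K A 0, ∃ g ∈ MulAction.stabilizer Co0 (mkL u0), Acts (X P) (bset B) g σ :=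
  acts_K_sub fun j h1 h2 => by
  have h3 : j < 13 := h2
  interval_cases j
  · exact g0co.imp fun g hg => ⟨fix0u0 hg, acts0 hg⟩
  · exact g1co.imp fun g hg => ⟨fix1u0 hg, acts1 hg⟩
  · exact g2co.imp fun g hg => ⟨fix2u0 hg, acts2 hg⟩
  · exact g3co.imp fun g hg => ⟨fix3u0 hg, acts3 hg⟩
  · exact g4co.imp fun g hg => ⟨fix4u0 hg, acts4 hg⟩
  · exact g5co.imp fun g hg => ⟨fix5u0 hg, acts5 hg⟩
  · exact g6co.imp fun g hg => ⟨fix6u0 hg, acts6 hg⟩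
  · exact g7co.imp fun g hg => ⟨fix7u0 hg, acts7 hg⟩
  · exact g8co.imp fun g hg => ⟨fix8u0 hg, acts8 hg⟩
  · exact g9co.imp fun g hg => ⟨fix9u0 hg, acts9 hg⟩
  · exact g10co.imp fun g hg => ⟨fix10u0 hg, acts10 hg⟩
  · exact g11co.imp fun g hg => ⟨fix11u0 hg, acts11 hg⟩
  · exact g12co.imp fun g hg => ⟨fix12u0 hg, acts12 hg⟩
theorem XU : X P 3467 = mkL U := X_eq (by decide +kernel)

/-- a standard vector -/
def x0 : List ℤ := [4, 0, 4, 0, 0, 0, 0, 0, 0, 0, 0, 0, 0, 0, 0, 0, 0, 0, 0, 0, 0, 0, 0, 0]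
theorem nx0 : sqNorm (mkL x0 : V) = 32 := norm_mkL (by decide +kernel)
theorem Xx0 : X P 3468 = mkL x0 := X_eq (by decide +kernel)

/-- a standard vector -/
def x1 : List ℤ := [4, -4, 0, 0, 0, 0, 0, 0, 0, 0, 0, 0, 0, 0, 0, 0, 0, 0, 0, 0, 0, 0, 0, 0]
theorem nx1 : sqNorm (mkL x1 : V) = 32 := norm_mkL (by decide +kernel)
theorem Xx1 : X P 3466 = mkL x1 := X_eq (by decide +kernel)

/-- a standard vector -/
def y1 : List ℤ := [4, 0, 0, 0, 0, 0, 0, 0, 0, 0, 0, 0, 0, 0, 0, 0, 0, 0, 0, 0, 0, 0, 0, -4]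
theorem ny1 : sqNorm (mkL y1 : V) = 32 := norm_mkL (by decide +kernel)
theorem Xy1 : X P 0 = mkL y1 := X_eq (by decide +kernel)

/-- a standard vector -/
def x2 : List ℤ := [4, 0, 0, 0, 0, 0, 0, 0, 0, 0, 0, 0, 0, 0, 0, 0, 0, 0, 0, 0, 0, 0, 0, 4]
theorem nx2 : sqNorm (mkL x2 : V) = 32 := norm_mkL (by decide +kernel)
theorem Xx2 : X P 11729 = mkL x2 := X_eq (by decide +kernel)

/-- a standard vector -/
def x3 : List ℤ := [0, 2, 0, 2, 0, 2, 2, 2, 0, 0, 0, 2, 2, 0, 0, 0, 0, 0, 0, 0, 0, 0, 0, 2]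
theorem nx3 : sqNorm (mkL x3 : V) = 32 := norm_mkL (by decide +kernel)
theorem Xx3 : X P 10541 = mkL x3 := X_eq (by decide +kernel)

theorem lay : Lay A P B (MulAction.stabilizer Co0 (mkL u0)) :=
  ⟨⟨_, hA⟩, acts, hmem, injOn_X hmem (by decide) hsort, min_of_cover hA hl acts (r := 3)
    (rs := [3467, 0]) (by decide +kernel) (by simp [XU, Xy1, nU, ny1])⟩

theorem full24 : Full P B [(u0, 24)] := lay.full M.cntu24 (l := 11) (by decide +kernel)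
theorem full16 : Full P B [(u0, 16)] := lay.full M.cntu16 (l := 11) (by decide +kernel)

theorem du0_x0 : dotInt (mkL u0 : V) (mkL x0 : V) = 24 := dot_mkL (by decide +kernel)
theorem dU_x0 : dotInt (mkL U : V) (mkL x0 : V) = 16 := dot_mkL (by decide +kernel)
theorem tr275 : ∀ x ∈ FL [(mkL u0, 24), (mkL U, 16)], ∃ g : Co0, (∀ b ∈ mkL u0 :: [mkL U], g • b = b) ∧ g • mkL x0 = x :=
  single_rep (lay.transL (full24.mono (cs' := [(u0, 24), (U, 16)]) (by simp)) (gens := [[gw 2], [gw 3]])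
    (bs := [3467]) (rs := [3468]) (r := 9) (by decide +kernel) (by simp [XU]) (by simp [Xx0]))
theorem cnt275 : (FL [(mkL u0, 24), (mkL U, 16)]).ncard = 275 :=
  lay.ncardL (full24.mono (cs' := [(u0, 24), (U, 16)]) (by simp)) (l := 11) (by decide +kernel)
theorem mem275 : mkL x0 ∈ FL [(mkL u0, 24), (mkL U, 16)] := mem_FL2.2 ⟨nx0, du0_x0, dU_x0⟩


/-- a standard vector -/
def a_8 : List ℤ := [3, 1, -1, 1, 1, 1, 1, 1, 1, 1, 1, -1, 1, 1, -1, 1, 1, 1, 1, 1, -1, -1, -1, -1]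
theorem na_8 : sqNorm (mkL a_8 : V) = 32 := norm_mkL (by decide +kernel)
theorem Xa_8 : X P 522 = mkL a_8 := X_eq (by decide +kernel)
theorem du0_a_8 : dotInt (mkL u0 : V) (mkL a_8 : V) = 24 := dot_mkL (by decide +kernel)
theorem dU_a_8 : dotInt (mkL U : V) (mkL a_8 : V) = 16 := dot_mkL (by decide +kernel)
theorem dx0_a_8 : dotInt (mkL x0 : V) (mkL a_8 : V) = 8 := dot_mkL (by decide +kernel)
theorem tra_8 : ∀ x ∈ FL [(mkL u0, 24), (mkL U, 16), (mkL x0, 8)], ∃ g : Co0, (∀ b ∈ mkL u0 :: [mkL U, mkL x0], g • b = b) ∧ g • mkL a_8 = x :=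
  single_rep (lay.transL (full24.mono (cs' := [(u0, 24), (U, 16), (x0, 8)]) (by simp)) (gens := [[gw 4], [gw 5]])
    (bs := [3467, 3468]) (rs := [522]) (r := 8) (by decide +kernel) (by simp [XU, Xx0]) (by simp [Xa_8]))
theorem cnta_8 : (FL [(mkL u0, 24), (mkL U, 16), (mkL x0, 8)]).ncard = 112 :=
  lay.ncardL (full24.mono (cs' := [(u0, 24), (U, 16), (x0, 8)]) (by simp)) (l := 11) (by decide +kernel)
theorem mema_8 : mkL a_8 ∈ FL [(mkL u0, 24), (mkL U, 16), (mkL x0, 8)] := mem_FL3.2 ⟨na_8, du0_a_8, dU_a_8, dx0_a_8⟩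


/-- a standard vector -/
def a_16 : List ℤ := [3, 1, 1, 1, -1, -1, 1, 1, 1, 1, 1, 1, 1, 1, 1, 1, 1, -1, 1, -1, 1, -1, -1, -1]
theorem na_16 : sqNorm (mkL a_16 : V) = 32 := norm_mkL (by decide +kernel)
theorem Xa_16 : X P 550 = mkL a_16 := X_eq (by decide +kernel)
theorem du0_a_16 : dotInt (mkL u0 : V) (mkL a_16 : V) = 24 := dot_mkL (by decide +kernel)
theorem dU_a_16 : dotInt (mkL U : V) (mkL a_16 : V) = 16 := dot_mkL (by decide +kernel)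
theorem dx0_a_16 : dotInt (mkL x0 : V) (mkL a_16 : V) = 16 := dot_mkL (by decide +kernel)
theorem tra_16 : ∀ x ∈ FL [(mkL u0, 24), (mkL U, 16), (mkL x0, 16)], ∃ g : Co0, (∀ b ∈ mkL u0 :: [mkL U, mkL x0], g • b = b) ∧ g • mkL a_16 = x :=
  single_rep (lay.transL (full24.mono (cs' := [(u0, 24), (U, 16), (x0, 16)]) (by simp)) (gens := [[gw 4], [gw 5]])
    (bs := [3467, 3468]) (rs := [550]) (r := 9) (by decide +kernel) (by simp [XU, Xx0]) (by simp [Xa_16]))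
theorem cnta_16 : (FL [(mkL u0, 24), (mkL U, 16), (mkL x0, 16)]).ncard = 162 :=
  lay.ncardL (full24.mono (cs' := [(u0, 24), (U, 16), (x0, 16)]) (by simp)) (l := 11) (by decide +kernel)
theorem mema_16 : mkL a_16 ∈ FL [(mkL u0, 24), (mkL U, 16), (mkL x0, 16)] := mem_FL3.2 ⟨na_16, du0_a_16, dU_a_16, dx0_a_16⟩

theorem dx0_x0 : dotInt (mkL x0 : V) (mkL x0 : V) = 32 := dot_mkL (by decide +kernel)
theorem tra_all : ∀ x ∈ FL [(mkL u0, 24), (mkL U, 16)], ∃ a ∈ [mkL x0, mkL a_8, mkL a_16], ∃ g : Co0, (∀ b ∈ mkL u0 :: [mkL U, mkL x0], g • b = b) ∧ g • a = x :=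
  lay.transL (full24.mono (cs' := [(u0, 24), (U, 16)]) (by simp)) (gens := [[gw 4], [gw 5]])
    (bs := [3467, 3468]) (rs := [3468, 522, 550]) (r := 9) (by decide +kernel) (by simp [XU, Xx0]) (by simp [Xx0, Xa_8, Xa_16])

theorem du0_x1 : dotInt (mkL u0 : V) (mkL x1 : V) = 16 := dot_mkL (by decide +kernel)
theorem dU_x1 : dotInt (mkL U : V) (mkL x1 : V) = 0 := dot_mkL (by decide +kernel)
theorem tr2025 : ∀ x ∈ FL [(mkL u0, 16), (mkL U, 0)], ∃ g : Co0, (∀ b ∈ mkL u0 :: [mkL U], g • b = b) ∧ g • mkL x1 = x :=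
  single_rep (lay.transL (full16.mono (cs' := [(u0, 16), (U, 0)]) (by simp)) (gens := [[gw 2], [gw 3]])
    (bs := [3467]) (rs := [3466]) (r := 11) (by decide +kernel) (by simp [XU]) (by simp [Xx1]))
theorem cnt2025 : (FL [(mkL u0, 16), (mkL U, 0)]).ncard = 2025 :=
  lay.ncardL (full16.mono (cs' := [(u0, 16), (U, 0)]) (by simp)) (l := 11) (by decide +kernel)
theorem mem2025 : mkL x1 ∈ FL [(mkL u0, 16), (mkL U, 0)] := mem_FL2.2 ⟨nx1, du0_x1, dU_x1⟩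


/-- a standard vector -/
def b_0 : List ℤ := [0, 0, 2, 2, 2, 2, 2, 0, 0, 2, 0, 0, 2, 0, 2, 0, 0, 0, 0, 0, 0, 0, 0, 0]
theorem nb_0 : sqNorm (mkL b_0 : V) = 32 := norm_mkL (by decide +kernel)
theorem Xb_0 : X P 3529 = mkL b_0 := X_eq (by decide +kernel)
theorem du0_b_0 : dotInt (mkL u0 : V) (mkL b_0 : V) = 16 := dot_mkL (by decide +kernel)
theorem dU_b_0 : dotInt (mkL U : V) (mkL b_0 : V) = 0 := dot_mkL (by decide +kernel)
theorem dx1_b_0 : dotInt (mkL x1 : V) (mkL b_0 : V) = 0 := dot_mkL (by decide +kernel)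
theorem trb_0 : ∀ x ∈ FL [(mkL u0, 16), (mkL U, 0), (mkL x1, 0)], ∃ g : Co0, (∀ b ∈ mkL u0 :: [mkL U, mkL x1], g • b = b) ∧ g • mkL b_0 = x :=
  single_rep (lay.transL (full16.mono (cs' := [(u0, 16), (U, 0), (x1, 0)]) (by simp)) (gens := [[gw 6], [gw 7]])
    (bs := [3467, 3466]) (rs := [3529]) (r := 8) (by decide +kernel) (by simp [XU, Xx1]) (by simp [Xb_0]))
theorem cntb_0 : (FL [(mkL u0, 16), (mkL U, 0), (mkL x1, 0)]).ncard = 330 :=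
  lay.ncardL (full16.mono (cs' := [(u0, 16), (U, 0), (x1, 0)]) (by simp)) (l := 11) (by decide +kernel)
theorem memb_0 : mkL b_0 ∈ FL [(mkL u0, 16), (mkL U, 0), (mkL x1, 0)] := mem_FL3.2 ⟨nb_0, du0_b_0, dU_b_0, dx1_b_0⟩


/-- a standard vector -/
def b_16 : List ℤ := [2, -2, 0, 2, 0, 0, 2, 0, 2, 0, 2, 0, 0, 2, 0, 0, 0, 0, 0, 0, 0, 0, 0, -2]
theorem nb_16 : sqNorm (mkL b_16 : V) = 32 := norm_mkL (by decide +kernel)
theorem Xb_16 : X P 88 = mkL b_16 := X_eq (by decide +kernel)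
theorem du0_b_16 : dotInt (mkL u0 : V) (mkL b_16 : V) = 16 := dot_mkL (by decide +kernel)
theorem dU_b_16 : dotInt (mkL U : V) (mkL b_16 : V) = 0 := dot_mkL (by decide +kernel)
theorem dx1_b_16 : dotInt (mkL x1 : V) (mkL b_16 : V) = 16 := dot_mkL (by decide +kernel)
theorem trb_16 : ∀ x ∈ FL [(mkL u0, 16), (mkL U, 0), (mkL x1, 16)], ∃ g : Co0, (∀ b ∈ mkL u0 :: [mkL U, mkL x1], g • b = b) ∧ g • mkL b_16 = x :=
  single_rep (lay.transL (full16.mono (cs' := [(u0, 16), (U, 0), (x1, 16)]) (by simp)) (gens := [[gw 6], [gw 7]])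
    (bs := [3467, 3466]) (rs := [88]) (r := 9) (by decide +kernel) (by simp [XU, Xx1]) (by simp [Xb_16]))
theorem cntb_16 : (FL [(mkL u0, 16), (mkL U, 0), (mkL x1, 16)]).ncard = 462 :=
  lay.ncardL (full16.mono (cs' := [(u0, 16), (U, 0), (x1, 16)]) (by simp)) (l := 11) (by decide +kernel)
theorem memb_16 : mkL b_16 ∈ FL [(mkL u0, 16), (mkL U, 0), (mkL x1, 16)] := mem_FL3.2 ⟨nb_16, du0_b_16, dU_b_16, dx1_b_16⟩


/-- a standard vector -/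
def b_8 : List ℤ := [1, -1, 1, 1, 1, 1, 1, 1, 1, 1, 3, 1, 1, -1, 1, 1, 1, 1, 1, -1, -1, -1, -1, -1]
theorem nb_8 : sqNorm (mkL b_8 : V) = 32 := norm_mkL (by decide +kernel)
theorem Xb_8 : X P 482 = mkL b_8 := X_eq (by decide +kernel)
theorem du0_b_8 : dotInt (mkL u0 : V) (mkL b_8 : V) = 16 := dot_mkL (by decide +kernel)
theorem dU_b_8 : dotInt (mkL U : V) (mkL b_8 : V) = 0 := dot_mkL (by decide +kernel)
theorem dx1_b_8 : dotInt (mkL x1 : V) (mkL b_8 : V) = 8 := dot_mkL (by decide +kernel)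
theorem trb_8 : ∀ x ∈ FL [(mkL u0, 16), (mkL U, 0), (mkL x1, 8)], ∃ g : Co0, (∀ b ∈ mkL u0 :: [mkL U, mkL x1], g • b = b) ∧ g • mkL b_8 = x :=
  single_rep (lay.transL (full16.mono (cs' := [(u0, 16), (U, 0), (x1, 8)]) (by simp)) (gens := [[gw 6], [gw 7]])
    (bs := [3467, 3466]) (rs := [482]) (r := 11) (by decide +kernel) (by simp [XU, Xx1]) (by simp [Xb_8]))
theorem cntb_8 : (FL [(mkL u0, 16), (mkL U, 0), (mkL x1, 8)]).ncard = 1232 :=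
  lay.ncardL (full16.mono (cs' := [(u0, 16), (U, 0), (x1, 8)]) (by simp)) (l := 11) (by decide +kernel)
theorem memb_8 : mkL b_8 ∈ FL [(mkL u0, 16), (mkL U, 0), (mkL x1, 8)] := mem_FL3.2 ⟨nb_8, du0_b_8, dU_b_8, dx1_b_8⟩

theorem dx1_x1 : dotInt (mkL x1 : V) (mkL x1 : V) = 32 := dot_mkL (by decide +kernel)
theorem trb_all : ∀ x ∈ FL [(mkL u0, 16), (mkL U, 0)], ∃ a ∈ [mkL x1, mkL b_0, mkL b_16, mkL b_8], ∃ g : Co0, (∀ b ∈ mkL u0 :: [mkL U, mkL x1], g • b = b) ∧ g • a = x :=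
  lay.transL (full16.mono (cs' := [(u0, 16), (U, 0)]) (by simp)) (gens := [[gw 6], [gw 7]])
    (bs := [3467, 3466]) (rs := [3466, 3529, 88, 482]) (r := 11) (by decide +kernel) (by simp [XU, Xx1]) (by simp [Xx1, Xb_0, Xb_16, Xb_8])

theorem du0_y1 : dotInt (mkL u0 : V) (mkL y1 : V) = 16 := dot_mkL (by decide +kernel)
theorem tr11178 : ∀ x ∈ FL [(mkL u0, 16)], ∃ g : Co0, (∀ b ∈ mkL u0 :: [], g • b = b) ∧ g • mkL y1 = x :=
  single_rep (lay.transL (full16.mono (cs' := [(u0, 16)]) (by simp)) (gens := [[gw 0], [gw 1]])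
    (bs := []) (rs := [0]) (r := 13) (by decide +kernel) (by simp []) (by simp [Xy1]))
theorem cnt11178 : (FL [(mkL u0, 16)]).ncard = 11178 :=
  lay.ncardL (full16.mono (cs' := [(u0, 16)]) (by simp)) (l := 11) (by decide +kernel)
theorem mem11178 : mkL y1 ∈ FL [(mkL u0, 16)] := mem_FL1.2 ⟨ny1, du0_y1⟩


/-- a standard vector -/
def c_16 : List ℤ := [2, 0, 2, 0, 0, 2, 0, 2, 0, 2, 0, 0, 2, 0, 0, 0, 0, 0, 0, 0, 0, 0, -2, -2]
theorem nc_16 : sqNorm (mkL c_16 : V) = 32 := norm_mkL (by decide +kernel)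
theorem Xc_16 : X P 2 = mkL c_16 := X_eq (by decide +kernel)
theorem du0_c_16 : dotInt (mkL u0 : V) (mkL c_16 : V) = 16 := dot_mkL (by decide +kernel)
theorem dy1_c_16 : dotInt (mkL y1 : V) (mkL c_16 : V) = 16 := dot_mkL (by decide +kernel)
theorem trc_16 : ∀ x ∈ FL [(mkL u0, 16), (mkL y1, 16)], ∃ g : Co0, (∀ b ∈ mkL u0 :: [mkL y1], g • b = b) ∧ g • mkL c_16 = x :=
  single_rep (lay.transL (full16.mono (cs' := [(u0, 16), (y1, 16)]) (by simp)) (gens := [[gw 8], [gw 9]])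
    (bs := [0]) (rs := [2]) (r := 11) (by decide +kernel) (by simp [Xy1]) (by simp [Xc_16]))
theorem cntc_16 : (FL [(mkL u0, 16), (mkL y1, 16)]).ncard = 1100 :=
  lay.ncardL (full16.mono (cs' := [(u0, 16), (y1, 16)]) (by simp)) (l := 11) (by decide +kernel)
theorem memc_16 : mkL c_16 ∈ FL [(mkL u0, 16), (mkL y1, 16)] := mem_FL2.2 ⟨nc_16, du0_c_16, dy1_c_16⟩


/-- a standard vector -/
def c_0 : List ℤ := [0, 2, 2, 2, 2, 2, 0, 0, 2, 0, 0, 2, 0, 2, 0, 0, 0, 0, 0, 0, 0, 0, 0, 0]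
theorem nc_0 : sqNorm (mkL c_0 : V) = 32 := norm_mkL (by decide +kernel)
theorem Xc_0 : X P 3500 = mkL c_0 := X_eq (by decide +kernel)
theorem du0_c_0 : dotInt (mkL u0 : V) (mkL c_0 : V) = 16 := dot_mkL (by decide +kernel)
theorem dy1_c_0 : dotInt (mkL y1 : V) (mkL c_0 : V) = 0 := dot_mkL (by decide +kernel)
theorem trc_0 : ∀ x ∈ FL [(mkL u0, 16), (mkL y1, 0)], ∃ g : Co0, (∀ b ∈ mkL u0 :: [mkL y1], g • b = b) ∧ g • mkL c_0 = x :=
  single_rep (lay.transL (full16.mono (cs' := [(u0, 16), (y1, 0)]) (by simp)) (gens := [[gw 8], [gw 9]])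
    (bs := [0]) (rs := [3500]) (r := 12) (by decide +kernel) (by simp [Xy1]) (by simp [Xc_0]))
theorem cntc_0 : (FL [(mkL u0, 16), (mkL y1, 0)]).ncard = 4125 :=
  lay.ncardL (full16.mono (cs' := [(u0, 16), (y1, 0)]) (by simp)) (l := 11) (by decide +kernel)
theorem memc_0 : mkL c_0 ∈ FL [(mkL u0, 16), (mkL y1, 0)] := mem_FL2.2 ⟨nc_0, du0_c_0, dy1_c_0⟩


/-- a standard vector -/
def c_8 : List ℤ := [1, 3, 1, 1, 1, 1, 1, 1, 1, 1, -1, 1, 1, -1, 1, 1, 1, 1, 1, -1, -1, -1, -1, -1]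
theorem nc_8 : sqNorm (mkL c_8 : V) = 32 := norm_mkL (by decide +kernel)
theorem Xc_8 : X P 481 = mkL c_8 := X_eq (by decide +kernel)
theorem du0_c_8 : dotInt (mkL u0 : V) (mkL c_8 : V) = 16 := dot_mkL (by decide +kernel)
theorem dy1_c_8 : dotInt (mkL y1 : V) (mkL c_8 : V) = 8 := dot_mkL (by decide +kernel)
theorem trc_8 : ∀ x ∈ FL [(mkL u0, 16), (mkL y1, 8)], ∃ g : Co0, (∀ b ∈ mkL u0 :: [mkL y1], g • b = b) ∧ g • mkL c_8 = x :=
  single_rep (lay.transL (full16.mono (cs' := [(u0, 16), (y1, 8)]) (by simp)) (gens := [[gw 8], [gw 9]])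
    (bs := [0]) (rs := [481]) (r := 13) (by decide +kernel) (by simp [Xy1]) (by simp [Xc_8]))
theorem cntc_8 : (FL [(mkL u0, 16), (mkL y1, 8)]).ncard = 5600 :=
  lay.ncardL (full16.mono (cs' := [(u0, 16), (y1, 8)]) (by simp)) (l := 11) (by decide +kernel)
theorem memc_8 : mkL c_8 ∈ FL [(mkL u0, 16), (mkL y1, 8)] := mem_FL2.2 ⟨nc_8, du0_c_8, dy1_c_8⟩

theorem du0_x3 : dotInt (mkL u0 : V) (mkL x3 : V) = 16 := dot_mkL (by decide +kernel)
theorem dy1_x3 : dotInt (mkL y1 : V) (mkL x3 : V) = -8 := dot_mkL (by decide +kernel)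
theorem tr352 : ∀ x ∈ FL [(mkL u0, 16), (mkL y1, -8)], ∃ g : Co0, (∀ b ∈ mkL u0 :: [mkL y1], g • b = b) ∧ g • mkL x3 = x :=
  single_rep (lay.transL (full16.mono (cs' := [(u0, 16), (y1, -8)]) (by simp)) (gens := [[gw 8], [gw 9]])
    (bs := [0]) (rs := [10541]) (r := 9) (by decide +kernel) (by simp [Xy1]) (by simp [Xx3]))
theorem cnt352 : (FL [(mkL u0, 16), (mkL y1, -8)]).ncard = 352 :=
  lay.ncardL (full16.mono (cs' := [(u0, 16), (y1, -8)]) (by simp)) (l := 11) (by decide +kernel)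
theorem mem352 : mkL x3 ∈ FL [(mkL u0, 16), (mkL y1, -8)] := mem_FL2.2 ⟨nx3, du0_x3, dy1_x3⟩

theorem dy1_y1 : dotInt (mkL y1 : V) (mkL y1 : V) = 32 := dot_mkL (by decide +kernel)
theorem trc_all : ∀ x ∈ FL [(mkL u0, 16)], ∃ a ∈ [mkL y1, mkL x3, mkL c_16, mkL c_0, mkL c_8], ∃ g : Co0, (∀ b ∈ mkL u0 :: [mkL y1], g • b = b) ∧ g • a = x :=
  lay.transL (full16.mono (cs' := [(u0, 16)]) (by simp)) (gens := [[gw 8], [gw 9]])
    (bs := [0]) (rs := [0, 10541, 2, 3500, 481]) (r := 13) (by decide +kernel) (by simp [Xy1]) (by simp [Xy1, Xx3, Xc_16, Xc_0, Xc_8])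

theorem du0_x2 : dotInt (mkL u0 : V) (mkL x2 : V) = 24 := dot_mkL (by decide +kernel)
theorem dy1_x2 : dotInt (mkL y1 : V) (mkL x2 : V) = 0 := dot_mkL (by decide +kernel)
theorem tr100 : ∀ x ∈ FL [(mkL u0, 24), (mkL y1, 0)], ∃ g : Co0, (∀ b ∈ mkL u0 :: [mkL y1], g • b = b) ∧ g • mkL x2 = x :=
  single_rep (lay.transL (full24.mono (cs' := [(u0, 24), (y1, 0)]) (by simp)) (gens := [[gw 8], [gw 9]])
    (bs := [0]) (rs := [11729]) (r := 7) (by decide +kernel) (by simp [Xy1]) (by simp [Xx2]))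
theorem cnt100 : (FL [(mkL u0, 24), (mkL y1, 0)]).ncard = 100 :=
  lay.ncardL (full24.mono (cs' := [(u0, 24), (y1, 0)]) (by simp)) (l := 11) (by decide +kernel)
theorem mem100 : mkL x2 ∈ FL [(mkL u0, 24), (mkL y1, 0)] := mem_FL2.2 ⟨nx2, du0_x2, dy1_x2⟩


/-- a standard vector -/
def e_8 : List ℤ := [1, 1, 1, 1, 1, 1, 1, 1, 1, 1, 1, 1, 1, 1, 1, 1, 1, 1, 1, 1, 1, 1, -3, 1]
theorem ne_8 : sqNorm (mkL e_8 : V) = 32 := norm_mkL (by decide +kernel)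
theorem Xe_8 : X P 6635 = mkL e_8 := X_eq (by decide +kernel)
theorem du0_e_8 : dotInt (mkL u0 : V) (mkL e_8 : V) = 24 := dot_mkL (by decide +kernel)
theorem dy1_e_8 : dotInt (mkL y1 : V) (mkL e_8 : V) = 0 := dot_mkL (by decide +kernel)
theorem dx2_e_8 : dotInt (mkL x2 : V) (mkL e_8 : V) = 8 := dot_mkL (by decide +kernel)
theorem tre_8 : ∀ x ∈ FL [(mkL u0, 24), (mkL y1, 0), (mkL x2, 8)], ∃ g : Co0, (∀ b ∈ mkL u0 :: [mkL y1, mkL x2], g • b = b) ∧ g • mkL e_8 = x :=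
  single_rep (lay.transL (full24.mono (cs' := [(u0, 24), (y1, 0), (x2, 8)]) (by simp)) (gens := [[gw 10], [gw 11]])
    (bs := [0, 11729]) (rs := [6635]) (r := 6) (by decide +kernel) (by simp [Xy1, Xx2]) (by simp [Xe_8]))
theorem cnte_8 : (FL [(mkL u0, 24), (mkL y1, 0), (mkL x2, 8)]).ncard = 22 :=
  lay.ncardL (full24.mono (cs' := [(u0, 24), (y1, 0), (x2, 8)]) (by simp)) (l := 11) (by decide +kernel)
theorem meme_8 : mkL e_8 ∈ FL [(mkL u0, 24), (mkL y1, 0), (mkL x2, 8)] := mem_FL3.2 ⟨ne_8, du0_e_8, dy1_e_8, dx2_e_8⟩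


/-- a standard vector -/
def e_16 : List ℤ := [2, 0, 2, 0, 2, 2, 2, 0, 0, 0, 2, 2, 0, 0, 0, 0, 0, 0, 0, 0, 0, 0, 0, 2]
theorem ne_16 : sqNorm (mkL e_16 : V) = 32 := norm_mkL (by decide +kernel)
theorem Xe_16 : X P 10540 = mkL e_16 := X_eq (by decide +kernel)
theorem du0_e_16 : dotInt (mkL u0 : V) (mkL e_16 : V) = 24 := dot_mkL (by decide +kernel)
theorem dy1_e_16 : dotInt (mkL y1 : V) (mkL e_16 : V) = 0 := dot_mkL (by decide +kernel)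
theorem dx2_e_16 : dotInt (mkL x2 : V) (mkL e_16 : V) = 16 := dot_mkL (by decide +kernel)
theorem tre_16 : ∀ x ∈ FL [(mkL u0, 24), (mkL y1, 0), (mkL x2, 16)], ∃ g : Co0, (∀ b ∈ mkL u0 :: [mkL y1, mkL x2], g • b = b) ∧ g • mkL e_16 = x :=
  single_rep (lay.transL (full24.mono (cs' := [(u0, 24), (y1, 0), (x2, 16)]) (by simp)) (gens := [[gw 10], [gw 11]])
    (bs := [0, 11729]) (rs := [10540]) (r := 7) (by decide +kernel) (by simp [Xy1, Xx2]) (by simp [Xe_16]))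
theorem cnte_16 : (FL [(mkL u0, 24), (mkL y1, 0), (mkL x2, 16)]).ncard = 77 :=
  lay.ncardL (full24.mono (cs' := [(u0, 24), (y1, 0), (x2, 16)]) (by simp)) (l := 11) (by decide +kernel)
theorem meme_16 : mkL e_16 ∈ FL [(mkL u0, 24), (mkL y1, 0), (mkL x2, 16)] := mem_FL3.2 ⟨ne_16, du0_e_16, dy1_e_16, dx2_e_16⟩

theorem dx2_x2 : dotInt (mkL x2 : V) (mkL x2 : V) = 32 := dot_mkL (by decide +kernel)
theorem tre_all : ∀ x ∈ FL [(mkL u0, 24), (mkL y1, 0)], ∃ a ∈ [mkL x2, mkL e_8, mkL e_16], ∃ g : Co0, (∀ b ∈ mkL u0 :: [mkL y1, mkL x2], g • b = b) ∧ g • a = x :=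
  lay.transL (full24.mono (cs' := [(u0, 24), (y1, 0)]) (by simp)) (gens := [[gw 10], [gw 11]])
    (bs := [0, 11729]) (rs := [11729, 6635, 10540]) (r := 7) (by decide +kernel) (by simp [Xy1, Xx2]) (by simp [Xx2, Xe_8, Xe_16])

theorem invol : ∃ g : Co0, g • mkL u0 = mkL u0 ∧ g • mkL y1 = mkL y1 ∧ g ^ 2 = 1 ∧
    ∀ x ∈ FL [(mkL u0, 24), (mkL y1, 0)], g • x ≠ x := by
  obtain ⟨g, hg⟩ := g12co
  have h := acts12 hg
  have e : pp A [gw 12] = gp A 12 := pp_gw (by omega)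
  refine ⟨g, fix12u0 hg, hg.maps (by decide +kernel), hg.sq (by decide +kernel), fun x hx => ?_⟩
  have hc : csB [(u0, 24), (y1, 0)] = true := by decide +kernel
  have hx' : x ∈ fam [(u0, 24), (y1, 0)] := by rw [fam_eq]; exact hx
  rw [← lay.image hc (full24.mono (by simp))] at hx'
  obtain ⟨i, hi, rfl⟩ := hx'
  have hi' := ((lay.mem_famM hc).1 hi).1
  rw [h.2 i hi']
  exact fun e' => movesB_spec hA (lg := 14) (w := [gw 12]) (by decide +kernel) hi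
    (e ▸ lay.inj ((h.1 i).2 hi') hi' e')

end Cfsg.Agent.Leech.L3
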